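import Groth.Agent.SyntLib.Smooth
import Mathlib.RingTheory.Extension.Presentation.Basic

/-!
A finite free algebra presented by as many relations as generators is syntomic.
-/

set_option autoImplicit false

universe u

open TensorProduct

namespace Groth.Agent.SyntLib

theorem isGlobalCI_of_presentation (k F : Type u) [Field k] [CommRing F] [Algebra k F] [Module.Finite k F]
    (n : ℕ) (P : Algebra.Presentation k F (Fin n) (Fin n)) : Synt.IsGlobalCI k F := by
  rcases subsingleton_or_nontrivial F with hs | hs
  · exact Or.inl hs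
  haveI : IsArtinianRing F := isArtinian_of_tower k inferInstance
  refine Or.inr ⟨n, n, le_rfl, MvPolynomial.aeval P.val, P.relation,
    fun x => ⟨P.σ x, P.toGenerators.aeval_val_σ x⟩, ?_, ?_⟩
  · rw [P.span_range_relation_eq_ker]
    exact P.toGenerators.ker_eq_ker_aeval_val.symm
  · exact (ringKrullDimZero_iff_ringKrullDim_eq_zero.1 inferInstance).trans (by simp)

theorem isGlobalCI_equiv (k F F' : Type u) [Field k] [CommRing F] [Algebra k F] [CommRing F'] [Algebra k F']
    (e : F ≃ₐ[k] F') (h : Synt.IsGlobalCI k F) : Synt.IsGlobalCI k F' := by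
  rcases h with h | ⟨n, c, hcn, φ, r, hφ, hker, hdim⟩
  · exact Or.inl e.toEquiv.symm.subsingleton
  refine Or.inr ⟨n, c, hcn, e.toAlgHom.comp φ, r, e.surjective.comp hφ, ?_, ?_⟩
  · rw [← hker]
    ext x
    simp only [RingHom.mem_ker]
    exact map_eq_zero_iff e e.injective
  · rw [← hdim, ← ringKrullDim_eq_of_ringEquiv e.toRingEquiv]

/-- A finite flat algebra presented by as many relations as generators is syntomic. -/
theorem isSyntomic_of_presentation (R S : Type u) [CommRing R] [CommRing S] [Algebra R S]
    [Module.Flat R S] [Module.Finite R S]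
    (n : ℕ) (P : Algebra.Presentation R S (Fin n) (Fin n)) : Synt.IsSyntomic R S := by
  refine ⟨inferInstance, P.finitePresentation_of_isFinite,
    fun p => ⟨inferInstance, fun q => ⟨1, fun h => q.isPrime.ne_top ((Ideal.eq_top_iff_one _).2 h), ?_⟩⟩⟩
  let F := p.asIdeal.Fiber S
  have hF : Synt.IsGlobalCI p.asIdeal.ResidueField F :=
    isGlobalCI_of_presentation _ _ n (P.baseChange p.asIdeal.ResidueField)
  let e1 : F ≃ₐ[F] Localization.Away (1 : F) :=
    IsLocalization.atUnits F (Submonoid.powers (1 : F)) (fun x hx => by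
      obtain ⟨m, rfl⟩ := hx
      exact isUnit_one.pow m)
  exact isGlobalCI_equiv _ _ _ (e1.restrictScalars _) hF

end Groth.Agent.SyntLib
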