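import Groth.Agent.SyntLib.Smooth
import Mathlib.RingTheory.AdjoinRoot

/-!
A finite monogenic algebra `R[X]/(g)`, `g` monic, is syntomic.
-/

set_option autoImplicit false

universe u

open TensorProduct

namespace Groth.Agent.SyntLib

theorem isGlobalCI_of_equiv_adjoinRoot (k F : Type u) [Field k] [CommRing F] [Algebra k F]
    (q : Polynomial k) (hq : q.Monic) (e : F ≃ₐ[k] AdjoinRoot q) : Synt.IsGlobalCI k F := by
  rcases subsingleton_or_nontrivial F with hs | hs
  · exact Or.inl hs
  let u := MvPolynomial.uniqueAlgEquiv k (Fin 1)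
  let φ : MvPolynomial (Fin 1) k →ₐ[k] F :=
    e.symm.toAlgHom.comp ((Ideal.Quotient.mkₐ k (Ideal.span {q})).comp u.toAlgHom)
  refine Or.inr ⟨1, 1, le_rfl, φ, fun _ => u.symm q, ?_, ?_, ?_⟩
  · exact e.symm.surjective.comp (Ideal.Quotient.mk_surjective.comp u.surjective)
  · ext x
    rw [Set.range_const, Ideal.mem_span_singleton, RingHom.mem_ker]
    show e.symm (Ideal.Quotient.mk _ (u x)) = 0 ↔ _
    rw [map_eq_zero_iff _ e.symm.injective]
    refine Ideal.Quotient.eq_zero_iff_mem.trans ?_
    rw [Ideal.mem_span_singleton, ← map_dvd_iff u (a := u.symm q), u.apply_symm_apply]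
  · haveI : Module.Finite k (AdjoinRoot q) := hq.finite_adjoinRoot
    haveI : Nontrivial (AdjoinRoot q) := e.symm.surjective.nontrivial
    haveI : IsArtinianRing (AdjoinRoot q) := isArtinian_of_tower k inferInstance
    rw [ringKrullDim_eq_of_ringEquiv e.toRingEquiv]
    exact (ringKrullDimZero_iff_ringKrullDim_eq_zero.1 inferInstance).trans (by simp)

theorem isGlobalCI_away_one (k F : Type u) [Field k] [CommRing F] [Algebra k F]
    (q : Polynomial k) (hq : q.Monic) (e : F ≃ₐ[k] AdjoinRoot q) :
    Synt.IsGlobalCI k (Localization.Away (1 : F)) := by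
  let e1 : F ≃ₐ[F] Localization.Away (1 : F) :=
    IsLocalization.atUnits F (Submonoid.powers (1 : F)) (fun x hx => by
      obtain ⟨n, rfl⟩ := hx
      exact isUnit_one.pow n)
  exact isGlobalCI_of_equiv_adjoinRoot k _ q hq ((e1.restrictScalars k).symm.trans e)

/-- the fibre of `R[X]/(g)` -/
noncomputable def fiberEquiv (R S : Type u) [CommRing R] [CommRing S] [Algebra R S] (g : Polynomial R)
    (e : S ≃ₐ[R] AdjoinRoot g) (K : Type u) [CommRing K] [Algebra R K] :
    K ⊗[R] S ≃ₐ[K] AdjoinRoot (g.map (algebraMap R K)) :=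
  ((Algebra.TensorProduct.congr AlgEquiv.refl e).trans (AdjoinRoot.tensorAlgEquiv g _ rfl)).trans
    (AdjoinRoot.mapAlgEquiv (Algebra.TensorProduct.rid R K K) _ _ (by
      rw [Polynomial.map_map]
      refine Associated.of_eq (congrArg (fun f => g.map f) (RingHom.ext fun r => ?_))
      simp [Algebra.smul_def]))

theorem isSyntomic_of_equiv_adjoinRoot (R S : Type u) [CommRing R] [CommRing S] [Algebra R S]
    (g : Polynomial R) (hg : g.Monic) (e : S ≃ₐ[R] AdjoinRoot g) : Synt.IsSyntomic R S := by
  haveI := hg.free_adjoinRoot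
  haveI := hg.finite_adjoinRoot
  haveI : Module.Free R S := Module.Free.of_equiv e.symm.toLinearEquiv
  haveI : Module.Finite R S := Module.Finite.equiv e.symm.toLinearEquiv
  refine ⟨inferInstance, ?_, fun p => ⟨inferInstance, fun q => ⟨1, fun h => q.isPrime.ne_top
    ((Ideal.eq_top_iff_one _).2 h), ?_⟩⟩⟩
  · haveI : Algebra.FinitePresentation R (AdjoinRoot g) :=
      Algebra.FinitePresentation.quotient (Submodule.fg_span_singleton g)
    exact Algebra.FinitePresentation.equiv e.symm
  · exact isGlobalCI_away_one _ _ _ (hg.map _) (fiberEquiv R S g e p.asIdeal.ResidueField)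

end Groth.Agent.SyntLib
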