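import Groth.Prelude.Def_RegImm
import Groth.Agent.GenDim.Height
import Mathlib.RingTheory.RingHom.StandardSmooth
import Mathlib.RingTheory.RingHom.LocallyStandardSmooth
import Mathlib.RingTheory.Unramified.LocalStructure
import Mathlib.RingTheory.Smooth.Flat
import Mathlib.RingTheory.KrullDimension.Polynomial
import Mathlib.RingTheory.Ideal.KrullsHeightTheorem

/-!
Smooth algebras over a field are local complete intersections; smooth algebras are syntomic.
-/

set_option autoImplicit false

universe u

open TensorProduct

namespace Groth.Agent.SyntLib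

/-- dimension bound by a quasi-finite base -/
theorem ringKrullDim_le_of_quasiFinite (R S : Type u) [CommRing R] [CommRing S] [Algebra R S]
    [Algebra.QuasiFinite R S] : ringKrullDim S ≤ ringKrullDim R := by
  refine Order.krullDim_le_of_strictMono (fun q : PrimeSpectrum S => q.comap (algebraMap R S)) fun a b hab => ?_
  refine lt_of_le_of_ne (fun x hx => hab.le hx) fun he => hab.ne (PrimeSpectrum.ext ?_)
  exact Algebra.QuasiFinite.eq_of_le_of_under_eq a.asIdeal b.asIdeal hab.le (show (PrimeSpectrum.comap (algebraMap R S) a).asIdeal = (PrimeSpectrum.comap (algebraMap R S) b).asIdeal from congrArg PrimeSpectrum.asIdeal he)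

theorem isGlobalCI_of_standardSmooth (k S : Type u) [Field k] [CommRing S] [Algebra k S]
    [h : Algebra.IsStandardSmooth k S] : Synt.IsGlobalCI k S := by
  rcases subsingleton_or_nontrivial S with hs | hs
  · exact Or.inl hs
  obtain ⟨ι, σ, _, _, ⟨P₀⟩⟩ := h.out
  let n := Nat.card ι
  let c := Nat.card σ
  let P : Algebra.SubmersivePresentation k S (Fin n) (Fin c) :=
    P₀.reindex (Finite.equivFin ι).symm (Finite.equivFin σ).symm
  have hcn : c ≤ n := by simpa using Fintype.card_le_of_injective P.map P.map_inj
  let φ : MvPolynomial (Fin n) k →ₐ[k] S := MvPolynomial.aeval P.val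
  have hφ : Function.Surjective φ := fun s => ⟨P.σ s, P.aeval_val_σ s⟩
  have hker : RingHom.ker φ.toRingHom = Ideal.span (Set.range P.relation) := by
    rw [P.span_range_relation_eq_ker, P.ker_eq_ker_aeval_val]
    rfl
  refine Or.inr ⟨n, c, hcn, φ, P.relation, hφ, hker, ?_⟩
  have hdim : P.dimension = n - c := by
    simp [Algebra.Presentation.dimension]
  have hup : ringKrullDim S ≤ ((n - c : ℕ) : WithBot ℕ∞) := by
    haveI : Algebra.IsStandardSmoothOfRelativeDimension (n - c) k S :=
      P.isStandardSmoothOfRelativeDimension hdim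
    obtain ⟨g, hg⟩ := Algebra.IsStandardSmoothOfRelativeDimension.exists_etale_mvPolynomial (R := k) (S := S) (n - c)
    letI := g.toRingHom.toAlgebra
    haveI : Algebra.Etale (MvPolynomial (Fin (n - c)) k) S := hg
    refine (ringKrullDim_le_of_quasiFinite (MvPolynomial (Fin (n - c)) k) S).trans (le_of_eq ?_)
    rw [MvPolynomial.ringKrullDim_of_isNoetherianRing, ringKrullDim_eq_zero_of_field k]
    simp
  have hlow : (n : WithBot ℕ∞) ≤ ringKrullDim S + (c : WithBot ℕ∞) := by
    obtain ⟨m, hm⟩ := Ideal.exists_maximal S
    let M := m.comap φ.toRingHom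
    haveI : M.IsMaximal := Ideal.comap_isMaximal_of_surjective φ.toRingHom hφ
    have h1 := Groth.Agent.GenDim.ringKrullDim_le_height k (MvPolynomial (Fin n) k) M
    rw [MvPolynomial.ringKrullDim_of_isNoetherianRing, ringKrullDim_eq_zero_of_field k, zero_add] at h1
    simp only [Nat.card_fin] at h1
    have hle : RingHom.ker φ.toRingHom ≤ M := fun x hx => by
      show φ x ∈ m
      rw [RingHom.mem_ker] at hx
      exact (show φ x = 0 from hx) ▸ m.zero_mem
    have h2 := height_le_ringKrullDim_quotient_add_spanFinrank hle
    rw [ringKrullDim_eq_of_ringEquiv (RingHom.quotientKerEquivOfSurjective (f := φ.toRingHom) hφ)] at h2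
    refine h1.trans (h2.trans (add_le_add le_rfl ?_))
    rw [hker]
    refine Nat.cast_le.2 ((Submodule.spanFinrank_span_le_ncard_of_finite (Set.finite_range _)).trans ?_)
    exact (Finite.card_range_le P.relation).trans (by simp)
  revert hup hlow
  cases ringKrullDim S using WithBot.recBotCoe with
  | bot =>
    intro _ h
    rw [WithBot.bot_add] at h
    exact absurd (le_bot_iff.1 h) (by simp)
  | coe d =>
    cases d using ENat.recTopCoe with
    | top =>
      intro h _
      exact absurd (WithBot.coe_le_coe.1 h) (by simp)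
    | coe d =>
      intro h1 h2
      have h1' : d ≤ n - c := ENat.coe_le_coe.1 (WithBot.coe_le_coe.1 h1)
      have h2' : n ≤ d + c := by exact_mod_cast h2
      have : d = n - c := by omega
      subst this
      rfl

theorem isLCIOver_of_smooth (k S : Type u) [Field k] [CommRing S] [Algebra k S] [Algebra.Smooth k S] :
    Synt.IsLCIOver k S := by
  refine ⟨inferInstance, fun p => ?_⟩
  obtain ⟨g, hg, hst⟩ := Algebra.IsSmoothAt.exists_notMem_isStandardSmooth k p.asIdeal
  exact ⟨g, hg, isGlobalCI_of_standardSmooth k _⟩

theorem isSyntomic_of_smooth (R S : Type u) [CommRing R] [CommRing S] [Algebra R S] [Algebra.Smooth R S] :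
    Synt.IsSyntomic R S :=
  ⟨inferInstance, inferInstance, fun _ => isLCIOver_of_smooth _ _⟩

end Groth.Agent.SyntLib
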